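import Cfsg.Agent.Lib.TwoGroup.SolvSuzuki.Forms

/-!
# The centre, a free automorphism and the invariant abelian normal subgroup

The arguments of `S1137` and `Lib/TwoGroup/SuzukiBase` for a solvable group of automorphisms
transitive on the involutions.
-/

set_option autoImplicit false
set_option linter.unusedSectionVars false
set_option linter.style.haveILetI false

namespace Cfsg.Lib.SolvSuzuki

open Cfsg.Lib.Suzuki2
open Cfsg.Agent.S1137 (auto_center exists_central_involution invSubgroup pow_root)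
open scoped commutatorElement

universe u

theorem center_sq : ∀ (N : ℕ) (P : Type u) [Group P] [Finite P], Nat.card P ≤ N → IsPGroup 2 P →
    (∃ x y : P, x * y ≠ y * x) → ∀ K : Subgroup (MulAut P), IsTransSol K → TwoInvol P →
    ∀ z ∈ Subgroup.center P, z * z = 1 := by
  intro N
  induction N with
  | zero =>
    intro P _ _ hN
    exact absurd hN (by have := Nat.card_pos (α := P); omega)
  | succ N ih =>
    intro P _ _ hN hP hna K hK htwo
    by_contra hcon
    push Not at hcon
    obtain ⟨z0, hz0, hz02⟩ := hcon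
    set Z := Subgroup.center P with hZ
    have hinv : ∀ x : P, x * x = 1 → x ∈ Z := fun x hx => involution_central hP hK hx
    set E := invSubgroup hinv with hE
    have hEmem : ∀ x : P, x ∈ E ↔ x * x = 1 := fun x => Iff.rfl
    haveI hEn : E.Normal := ⟨fun e he g => by
      rw [Subgroup.mem_center_iff.1 (hinv e he) g, mul_inv_cancel_right]; exact he⟩
    have hcomm : ∀ {x : P}, x ∈ Z → ∀ y : P, y * x = x * y := fun hx y => Subgroup.mem_center_iff.1 hx y
    -- a central element whose square is an involution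
    obtain ⟨v, hv, hv1, hv2⟩ : ∃ v ∈ Z, v * v ≠ 1 ∧ (v * v) * (v * v) = 1 := by
      obtain ⟨k, hk⟩ := hP z0
      induction k generalizing z0 with
      | zero => exact absurd (by simp at hk; simp [hk]) hz02
      | succ k ih' =>
        by_cases h : (z0 * z0) * (z0 * z0) = 1
        · exact ⟨z0, hz0, hz02, h⟩
        · refine ih' (z0 * z0) h (mul_mem hz0 hz0) ?_
          rw [← pow_two, ← pow_mul]; rwa [pow_succ'] at hk
    -- every involution is a central square
    have hroot : ∀ e : P, e * e = 1 → ∃ w ∈ Z, w * w = e := by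
      intro e he
      by_cases he1 : e = 1
      · exact ⟨1, one_mem _, by rw [he1, one_mul]⟩
      obtain ⟨k, -, hk⟩ := hK.2 _ e hv1 hv2 he1 he
      exact ⟨k v, auto_center k hv, by rw [← map_mul, hk]⟩
    -- an element with square in `E` is central
    have hU : ∀ x : P, x * x ∈ E → x ∈ Z := by
      intro x hx
      obtain ⟨w, hw, hwx⟩ := hroot _ hx
      have h1 : (x * w⁻¹) * (x * w⁻¹) = 1 := by
        rw [mul_assoc, ← mul_assoc w⁻¹ x, ← hcomm (inv_mem hw) x, mul_assoc x w⁻¹ w⁻¹, ← mul_assoc,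
          ← mul_inv_rev, hwx, mul_inv_cancel]
      simpa using mul_mem (hinv _ h1) hw
    -- upper central series
    obtain ⟨y, hyZ, hy⟩ : ∃ y : P, y ∉ Z ∧ ∀ g : P, ⁅y, g⁆ ∈ E := by
      haveI : Fact (Nat.Prime 2) := ⟨Nat.prime_two⟩
      have hne : Z ≠ ⊤ := fun h => by
        obtain ⟨a, b, hab⟩ := hna
        exact hab (hcomm (h ▸ Subgroup.mem_top b) a)
      haveI : Nontrivial (P ⧸ Z) := QuotientGroup.nontrivial_iff.2 hne
      obtain ⟨q, hq, hq1, hq2⟩ := exists_central_involution (hP.to_quotient Z)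
      obtain ⟨y, rfl⟩ := QuotientGroup.mk_surjective q
      have hy2 : y * y ∈ Z := (QuotientGroup.eq_one_iff _).1 hq2
      refine ⟨y, fun h => hq1 ((QuotientGroup.eq_one_iff _).2 h), fun g => (hEmem _).2 ?_⟩
      have hc : ⁅y, g⁆ ∈ Z := by
        rw [← QuotientGroup.eq_one_iff, ← QuotientGroup.mk'_apply, map_commutatorElement,
          commutatorElement_eq_one_iff_commute]
        exact (Subgroup.mem_center_iff.1 hq _).symm
      have h1 : ⁅y * y, g⁆ = 1 :=
        commutatorElement_eq_one_iff_commute.2 (hcomm hy2 g).symm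
      rwa [commutatorElement_mul_left_eq_conj_mul, hcomm hc y, mul_inv_cancel_right] at h1
    by_cases hab : ∀ a b : P, ⁅a, b⁆ ∈ E
    · -- the quotient by `E` is abelian
      have hsq : ∀ x : P, x * x ∈ Z := fun x => by
        refine Subgroup.mem_center_iff.2 fun g => ?_
        have h1 : ⁅x * x, g⁆ = 1 := by
          rw [commutatorElement_mul_left_eq_conj_mul, hcomm (hinv _ (hab x g)) x, mul_inv_cancel_right]
          exact hab x g
        exact ((commutatorElement_eq_one_iff_commute).1 h1).eq.symm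
      have hbil : ∀ a b c : P, ⁅a, b * c⁆ = ⁅a, b⁆ * ⁅a, c⁆ := fun a b c => by
        rw [commutatorElement_mul_right_eq_mul_conj, mul_assoc _ b, hcomm (hinv _ (hab a c)) b,
          ← mul_assoc, mul_inv_cancel_right]
      have hsqmul : ∀ a b : P, (a * b) * (a * b) = (a * a) * (b * b) * ⁅b, a⁆ := fun a b => by
        have hc := hcomm (hinv _ (hab b a))
        calc (a * b) * (a * b) = a * (⁅b, a⁆ * (a * b)) * b := by rw [commutatorElement_def]; group
          _ = _ := by
            rw [← hc (a * b)]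
            simp only [mul_assoc]
            rw [hc b]
      -- the height of the centre
      obtain ⟨T, hT1, hT2⟩ : ∃ T, (∀ z ∈ Z, z ^ 2 ^ (T + 1) = 1) ∧ ¬ ∀ z ∈ Z, z ^ 2 ^ T = 1 := by
        classical
        have hex : ∃ T, ∀ z ∈ Z, z ^ 2 ^ T = 1 := by
          obtain ⟨T, hT⟩ := IsPGroup.iff_card.1 hP
          exact ⟨T, fun z _ => hT ▸ pow_card_eq_one'⟩
        have hpos : Nat.find hex ≠ 0 := fun h => by
          have := Nat.find_spec hex v hv
          rw [h, pow_zero, pow_one] at this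
          exact hv1 (by rw [this, one_mul])
        obtain ⟨T, hT⟩ := Nat.exists_eq_succ_of_ne_zero hpos
        exact ⟨T, by have := Nat.find_spec hex; rwa [hT] at this, Nat.find_min hex (by omega)⟩
      push Not at hT2
      obtain ⟨t, ht, ht1⟩ := hT2
      have hTpos : T ≠ 0 := fun h => hv1 (by
        have := hT1 v hv
        simpa [h, pow_two] using this)
      let ψ : P → P := fun x => (x * x) ^ 2 ^ T
      have hψE : ∀ x, ψ x * ψ x = 1 := fun x => pow_root (hT1 _ (hsq x))
      have heven : ∀ c : P, c * c = 1 → c ^ 2 ^ T = 1 := fun c hc => by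
        obtain ⟨T', rfl⟩ := Nat.exists_eq_succ_of_ne_zero hTpos
        rw [pow_succ', pow_mul, pow_two, hc, one_pow]
      have hψmul : ∀ x w : P, ψ (x * w) = ψ x * ψ w := fun x w => by
        show ((x * w) * (x * w)) ^ 2 ^ T = _
        rw [hsqmul, Commute.mul_pow (hcomm (hinv _ (hab w x)) _), Commute.mul_pow (hcomm (hsq w) _),
          heven _ (hab w x), mul_one]
      have hψk : ∀ (k : MulAut P) x, ψ (k x) = k (ψ x) := fun k x => by
        show (k x * k x) ^ 2 ^ T = k ((x * x) ^ 2 ^ T)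
        rw [← map_mul, map_pow]
      have hwit : ∀ e : P, e * e = 1 → e ≠ 1 → ∃ w ∈ Z, w ^ 2 ^ T = e := fun e he he1 => by
        obtain ⟨k, -, hk⟩ := hK.2 _ e ht1 (pow_root (hT1 t ht)) he1 he
        exact ⟨k t, auto_center k ht, by rw [← map_pow, hk]⟩
      -- kernel of `ψ`
      have hker : ∀ j, j ≤ T → ∀ u ∈ Z, u ^ 2 ^ j = 1 → ∃ w ∈ Z, w * w = u := by
        intro j
        induction j with
        | zero =>
          intro _ u _ hu
          exact ⟨1, one_mem _, by rw [one_mul]; simpa using hu.symm⟩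
        | succ j ihj =>
          intro hj u hu hu1
          by_cases hu0 : u ^ 2 ^ j = 1
          · exact ihj (by omega) u hu hu0
          obtain ⟨w, hw, hwe⟩ := hwit _ (pow_root hu1) hu0
          obtain ⟨d, rfl⟩ := Nat.exists_eq_add_of_le (show j + 1 ≤ T from hj)
          set r := w ^ 2 ^ d with hr
          have hrr : (r * r) ^ 2 ^ j = u ^ 2 ^ j := by
            rw [hr, ← hwe, ← pow_two, ← pow_mul, ← pow_mul]
            congr 1
            ring
          obtain ⟨w', hw', hw'e⟩ := ihj (by omega) (u * (r * r)⁻¹)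
            (mul_mem hu (inv_mem (mul_mem (pow_mem hw _) (pow_mem hw _))))
            (by rw [Commute.mul_pow (hcomm hu _).symm, inv_pow, hrr, mul_inv_cancel])
          refine ⟨w' * r, mul_mem hw' (pow_mem hw _), ?_⟩
          rw [mul_assoc, ← mul_assoc r w' r, hcomm hw' r, mul_assoc w' r r, ← mul_assoc, hw'e,
            inv_mul_cancel_right]
      have hψker : ∀ x, ψ x = 1 → x ∈ Z := by
        intro x hx
        obtain ⟨w, hw, hwx⟩ := hker T le_rfl _ (hsq x) hx
        refine ?_
        have h1 : (x * w⁻¹) * (x * w⁻¹) = 1 := by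
          rw [mul_assoc, ← mul_assoc w⁻¹ x, ← hcomm (inv_mem hw) x, mul_assoc x w⁻¹ w⁻¹, ← mul_assoc,
            ← mul_inv_rev, hwx, mul_inv_cancel]
        simpa using mul_mem (hinv _ h1) hw
      have hlift : ∀ e : P, e * e = 1 → ∃ x, ψ x = e := by
        intro e he
        by_cases he1 : e = 1
        · exact ⟨1, by simp [ψ, he1]⟩
        obtain ⟨k, -, hk⟩ := hK.2 _ e (fun h => hyZ (hψker y h)) (hψE y) he1 he
        exact ⟨k y, by rw [hψk, hk]⟩
      choose! s hs using hlift
      have hwd : ∀ x x' g : P, ψ x = ψ x' → ⁅x, g⁆ = ⁅x', g⁆ := by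
        intro x x' g h
        have hz : x'⁻¹ * x ∈ Z := hψker _ (by
          rw [hψmul, h, ← hψmul, inv_mul_cancel]; simp [ψ])
        conv_lhs => rw [← mul_inv_cancel_left x' x]
        rw [commutatorElement_mul_left_eq_conj_mul,
          commutatorElement_eq_one_iff_commute.2 (hcomm hz g).symm, mul_one, mul_inv_cancel, one_mul]
      have hsw : ∀ a b : P, ⁅a, b⁆ = ⁅b, a⁆ := fun a b => by
        rw [← commutatorElement_inv b a, inv_eq_iff_mul_eq_one]
        exact hab b a
      have hwd2 : ∀ x x' g g' : P, ψ x = ψ x' → ψ g = ψ g' → ⁅x, g⁆ = ⁅x', g'⁆ := fun x x' g g' h h' => by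
        rw [hwd x x' g h, hsw x' g, hwd g g' x' h', hsw g' x']
      let β : P → P → P := fun a b => ⁅s a, s b⁆
      have hβ := fun {a b : P} (ha : a * a = 1) (hb : b * b = 1) =>
        form_eq_one hP hK htwo β (fun a b _ _ => hab _ _)
        (fun a b c ha hb hc => by
          show ⁅s a, s (b * c)⁆ = ⁅s a, s b⁆ * ⁅s a, s c⁆
          rw [← hbil]
          refine hwd2 _ _ _ _ rfl ?_
          rw [hψmul, hs b hb, hs c hc, hs (b * c) (E.mul_mem hb hc)])
        (fun a _ => commutatorElement_self _)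
        (fun a b _ _ => hsw _ _)
        (fun k _ a b ha hb => by
          show ⁅s (k a), s (k b)⁆ = k ⁅s a, s b⁆
          rw [map_commutatorElement k (s a) (s b)]
          refine hwd2 _ _ _ _ ?_ ?_
          · rw [hψk, hs a ha, hs (k a) (by rw [← map_mul, ha, map_one])]
          · rw [hψk, hs b hb, hs (k b) (by rw [← map_mul, hb, map_one])]) ha hb
      obtain ⟨a, b, hne⟩ := hna
      have h := hβ (hψE a) (hψE b)
      rw [show β (ψ a) (ψ b) = ⁅a, b⁆ from hwd2 _ _ _ _ (hs _ (hψE a)) (hs _ (hψE b))] at h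
      exact hne (commutatorElement_eq_one_iff_commute.1 h).eq
    · -- the quotient by `E` has the same shape
      push Not at hab
      obtain ⟨a, b, hab⟩ := hab
      have hstab : ∀ k : MulAut P, E.map (k : P →* P) = E := fun k => by
        refine le_antisymm ?_ fun x hx => ⟨k.symm x, ?_, k.apply_symm_apply x⟩
        · rintro _ ⟨e, he, rfl⟩
          show k e * k e = 1
          rw [← map_mul, he, map_one]
        · show k.symm x * k.symm x = 1
          rw [← map_mul, hx, map_one]
      let ρ : MulAut P →* MulAut (P ⧸ E) :=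
        { toFun := fun k => QuotientGroup.congr E E k (hstab k)
          map_one' := MulEquiv.ext fun q => by
            obtain ⟨x, rfl⟩ := QuotientGroup.mk_surjective q; rfl
          map_mul' := fun k l => MulEquiv.ext fun q => by
            obtain ⟨x, rfl⟩ := QuotientGroup.mk_surjective q; rfl }
      have hρ : IsTransSol (K.map ρ) := by
        refine ⟨?_, fun q r hq1 hq2 hr1 hr2 => ?_⟩
        · haveI := hK.1
          exact Group.isSolvable_of_surjective (ρ.subgroupMap_surjective K)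
        obtain ⟨x, rfl⟩ := QuotientGroup.mk_surjective q
        obtain ⟨w, rfl⟩ := QuotientGroup.mk_surjective r
        have hx2 : x * x ∈ E := (QuotientGroup.eq_one_iff _).1 hq2
        have hw2 : w * w ∈ E := (QuotientGroup.eq_one_iff _).1 hr2
        have hx1 : x * x ≠ 1 := fun h => hq1 ((QuotientGroup.eq_one_iff _).2 h)
        have hw1 : w * w ≠ 1 := fun h => hr1 ((QuotientGroup.eq_one_iff _).2 h)
        obtain ⟨k, hk, hkx⟩ := hK.2 _ _ hx1 hx2 hw1 hw2
        refine ⟨ρ k, ⟨k, hk, rfl⟩, ?_⟩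
        show ((k x : P) : P ⧸ E) = (w : P ⧸ E)
        rw [QuotientGroup.eq]
        have hkxZ : k x ∈ Z := auto_center k (hU x hx2)
        show ((k x)⁻¹ * w) * ((k x)⁻¹ * w) = 1
        rw [mul_assoc, ← mul_assoc w, hcomm (inv_mem hkxZ) w, mul_assoc _ w w, ← mul_assoc,
          ← mul_inv_rev, ← map_mul, hkx, inv_mul_cancel]
      have hlt : Nat.card (P ⧸ E) ≤ N := by
        have hcard : Nat.card P = Nat.card (P ⧸ E) * Nat.card E := Subgroup.card_eq_card_quotient_mul_card_subgroup E
        have : 1 < Nat.card E := by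
          rw [Subgroup.one_lt_card_iff_ne_bot, Subgroup.ne_bot_iff_exists_ne_one]
          exact ⟨⟨v * v, hv2⟩, fun h => hv1 (congrArg Subtype.val h)⟩
        have : 0 < Nat.card (P ⧸ E) := Nat.card_pos
        nlinarith
      have h := ih (P ⧸ E) hlt (hP.to_quotient E) ⟨a, b, fun h => hab (by
        rw [← QuotientGroup.eq_one_iff, ← QuotientGroup.mk'_apply, map_commutatorElement]
        exact commutatorElement_eq_one_iff_commute.2 h)⟩ (K.map ρ) hρ (by
        obtain ⟨e₁, e₂, he, he₁, he₁2, he₂, he₂2⟩ := htwo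
        obtain ⟨w₁, hw₁, hw₁e⟩ := hroot e₁ he₁2
        obtain ⟨w₂, hw₂, hw₂e⟩ := hroot e₂ he₂2
        refine ⟨w₁, w₂, fun h => he ?_, fun h => he₁ ?_, ?_, fun h => he₂ ?_, ?_⟩
        · have hd : (w₁⁻¹ * w₂) * (w₁⁻¹ * w₂) = 1 := QuotientGroup.eq.1 h
          rw [← hw₁e, ← hw₂e]
          calc w₁ * w₁ = w₁ * w₁ * ((w₁⁻¹ * w₂) * (w₁⁻¹ * w₂)) := by rw [hd, mul_one]
            _ = w₁ * (w₂ * w₁⁻¹) * w₂ := by group
            _ = w₂ * w₂ := by rw [hcomm (inv_mem hw₁) w₂, mul_inv_cancel_left]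
        · rw [← hw₁e]; exact (QuotientGroup.eq_one_iff _).1 h
        · rw [← QuotientGroup.mk_mul, hw₁e]; exact (QuotientGroup.eq_one_iff _).2 he₁2
        · rw [← hw₂e]; exact (QuotientGroup.eq_one_iff _).1 h
        · rw [← QuotientGroup.mk_mul, hw₂e]; exact (QuotientGroup.eq_one_iff _).2 he₂2) (y : P ⧸ E)
        (Subgroup.mem_center_iff.2 fun q => by
          obtain ⟨g, rfl⟩ := QuotientGroup.mk_surjective q
          have := (QuotientGroup.eq_one_iff _).2 (hy g)
          rw [← QuotientGroup.mk'_apply, map_commutatorElement,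
            commutatorElement_eq_one_iff_commute] at this
          exact this.eq.symm)
      exact hyZ (hU y ((QuotientGroup.eq_one_iff _).1 h))

variable {P : Type u} [Group P] [Finite P] {K : Subgroup (MulAut P)}

/-- A scalar of large order has a power of odd prime power order moving every involution. -/
theorem free_of_scalar (hP : IsPGroup 2 P) {L : Type} [Field L] {ι : L → P} {n s M : ℕ} {l : L}
    {k : MulAut P} (hinj : Function.Injective ι) (hιadd : ∀ x y, ι (x + y) = ι x * ι y)
    (hιsur : ∀ z : P, z * z = 1 → ∃ x, ι x = z) (hn2 : 2 ≤ n) (hsn : s ∣ n)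
    (hsM : s * M = 2 ^ n - 1) (hl : orderOf l = M) (hk : k ∈ K)
    (hkl : ∀ x, k (ι x) = ι (l * x)) :
    ∃ k' ∈ K, ∃ r m : ℕ, ∃ χ : L, r.Prime ∧ r ≠ 2 ∧ k' ^ r ^ m = 1 ∧ (∀ g : P, k' g = g → g = 1) ∧
      χ ≠ 0 ∧ ∀ x, k' (ι x) = ι (χ * x) := by
  classical
  haveI : Finite (MulAut P) := Finite.of_injective (fun a : MulAut P => (a : P → P))
    DFunLike.coe_injective
  have hι0 : ι 0 = 1 := by
    have := hιadd 0 0
    rwa [add_zero, left_eq_mul] at this
  have hbig : n + 1 < 2 ^ n := by
    clear hsn hsM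
    induction n, hn2 using Nat.le_induction with
    | base => norm_num
    | succ m hm ih => rw [pow_succ]; omega
  have hM1 : M ≠ 1 := fun h => by
    subst h
    have := Nat.le_of_dvd (by omega) hsn
    omega
  have hl0 : l ≠ 0 := fun h => by
    have h1 := hkl 1
    rw [h, zero_mul, hι0] at h1
    have h2 : ι 1 = 1 := k.injective (h1.trans (map_one k).symm)
    exact one_ne_zero (hinj (h2.trans hι0.symm))
  have hpow : ∀ j : ℕ, ∀ x, (k ^ j) (ι x) = ι (l ^ j * x) := by
    intro j
    induction j with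
    | zero => intro x; simp
    | succ j ih => intro x; rw [pow_succ, MulAut.mul_apply, hkl, ih, pow_succ, mul_assoc]
  have hMk : M ∣ orderOf k := by
    rw [← hl]
    refine orderOf_dvd_of_pow_eq_one ?_
    have h := hpow (orderOf k) 1
    rw [pow_orderOf_eq_one, MulAut.one_apply, mul_one] at h
    exact (hinj h).symm
  obtain ⟨r, hr, hrM⟩ := Nat.exists_prime_and_dvd hM1
  have hr2 : r ≠ 2 := by
    rintro rfl
    have h : 2 ∣ 2 ^ n - 1 := hrM.trans ⟨s, by rw [← hsM, mul_comm]⟩
    have h' : 2 ∣ 2 ^ n := dvd_pow_self 2 (by omega)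
    omega
  have hk0 : orderOf k ≠ 0 := (orderOf_pos k).ne'
  refine ⟨k ^ (orderOf k / r ^ (orderOf k).factorization r), K.pow_mem hk _, r,
    (orderOf k).factorization r, l ^ (orderOf k / r ^ (orderOf k).factorization r), hr, hr2, ?_,
    fun g hg => ?_, pow_ne_zero _ hl0, hpow _⟩
  · rw [← pow_mul, Nat.div_mul_cancel (Nat.ordProj_dvd _ _), pow_orderOf_eq_one]
  · by_contra hg1
    obtain ⟨j, hj1, hj2⟩ := exists_pow_invol hP hg1
    obtain ⟨x, hx⟩ := hιsur _ hj2
    have hx0 : x ≠ 0 := fun h => hj1 (by rw [← hx, h, hι0])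
    have h1 := hpow (orderOf k / r ^ (orderOf k).factorization r) x
    rw [hx, map_pow, hg, ← hx] at h1
    have h2 := orderOf_dvd_of_pow_eq_one (mul_eq_right₀ hx0 |>.1 (hinj h1).symm)
    rw [hl] at h2
    exact Nat.not_dvd_ordCompl hr hk0 (hrM.trans h2)

/-- An element of `K` of odd prime power order moving every involution. -/
theorem exists_free (hP : IsPGroup 2 P) (hK : IsTransSol K) (htwo : TwoInvol P) :
    ∃ k ∈ K, ∃ r n : ℕ, r.Prime ∧ r ≠ 2 ∧ k ^ r ^ n = 1 ∧ ∀ g : P, k g = g → g = 1 := by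
  obtain ⟨L, _, _, _, ι, n, s, M, l, hinj, hιadd, -, hιsur, -, hn2, hsn, hsM, -, hl,
    ⟨k, hk, hkl⟩, -⟩ := exists_semilinear hP hK htwo
  obtain ⟨k', hk', r, m, -, hr, hr2, hpw, hfree, -, -⟩ :=
    free_of_scalar hP hinj hιadd hιsur hn2 hsn hsM hl hk hkl
  exact ⟨k', hk', r, m, hr, hr2, hpw, hfree⟩

theorem exists_good (hP : IsPGroup 2 P) (hK : IsTransSol K)
    (htwo : TwoInvol P)
    (hc : ¬ ∀ a b : P, ⁅a, b⁆ ∈ Subgroup.center P) : ∃ A : Subgroup P, Good K A := by
  classical
  have hna : ∃ x y : P, x * y ≠ y * x := by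
    by_contra h
    push Not at h
    refine hc fun a b => ?_
    rw [commutatorElement_eq_one_iff_commute.2 (h a b)]
    exact one_mem _
  have hiv : ∀ z : P, z * z = 1 → z ∈ Subgroup.center P := fun z hz => involution_central hP hK hz
  have hZ : ∀ z ∈ Subgroup.center P, z * z = 1 :=
    center_sq (Nat.card P) P le_rfl hP hna K hK htwo
  let S : Set (Subgroup P) := {A | A.Normal ∧ (∀ k ∈ K, ∀ a ∈ A, k a ∈ A) ∧
    (∀ a ∈ A, ∀ b ∈ A, a * b = b * a) ∧ Subgroup.center P ≤ A}
  -- the starting subgroup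
  let Z2 := Subgroup.upperCentralSeries P 2
  have hZ2 : ∀ x : P, x ∈ Z2 ↔ ∀ g : P, ⁅x, g⁆ ∈ Subgroup.center P := fun x => by
    rw [show Z2 = Subgroup.upperCentralSeries P (1 + 1) from rfl,
      Subgroup.mem_upperCentralSeries_succ_iff, Subgroup.upperCentralSeries_one]
  let A₀ := Z2 ⊓ Subgroup.centralizer (Z2 : Set P)
  haveI hZ2n : Z2.Normal := inferInstance
  have hA₀ : A₀ ∈ S := by
    refine ⟨inferInstance, fun k _ a ha => ?_, fun a ha b hb =>
      Subgroup.mem_centralizer_iff.1 hb.2 a ha.1, fun z hz => ⟨?_, ?_⟩⟩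
    · have hk : ∀ b : P, b ∈ Z2 → k b ∈ Z2 := fun b hb => by
        refine (hZ2 _).2 fun g => ?_
        obtain ⟨g, rfl⟩ := k.surjective g
        rw [← map_commutatorElement]
        exact auto_center k ((hZ2 b).1 hb g)
      refine ⟨hk a ha.1, Subgroup.mem_centralizer_iff.2 fun b hb => ?_⟩
      obtain ⟨b, rfl⟩ := k.surjective b
      have hb' : b ∈ Z2 := (hZ2 b).2 fun g => by
        have h1 := auto_center k⁻¹ ((hZ2 _).1 hb (k g))
        rwa [map_commutatorElement, MulAut.inv_apply_self, MulAut.inv_apply_self] at h1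
      rw [← map_mul, ← map_mul, Subgroup.mem_centralizer_iff.1 ha.2 b hb']
    · exact (hZ2 z).2 fun g => by
        rw [commutatorElement_eq_one_iff_commute.2 (Subgroup.mem_center_iff.1 hz g).symm]
        exact one_mem _
    · exact Subgroup.mem_centralizer_iff.2 fun b _ => Subgroup.mem_center_iff.1 hz b
  obtain ⟨A, hA₀A, hAmax⟩ := (Set.toFinite S).exists_le_maximal hA₀
  obtain ⟨hAn, hAi, hAc, hAZ⟩ := hAmax.prop
  have hbig : ∃ a ∈ A, a * a ≠ 1 := by
    have hnle : ¬ commutator P ≤ Subgroup.center P := fun h => hc fun a b =>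
      h (Subgroup.commutator_mem_commutator (Subgroup.mem_top a) (Subgroup.mem_top b))
    obtain ⟨x, hxW, hxN, -, hx⟩ := exists_mod hP (Subgroup.center P) (commutator P) hnle
    refine ⟨x, hA₀A ⟨(hZ2 x).2 hx, Subgroup.mem_centralizer_iff.2 fun b hb => ?_⟩,
      fun h => hxN (hiv x h)⟩
    -- elements of the second centre commute with commutators
    have hb' : ∀ g : P, ⁅b, g⁆ ∈ Subgroup.center P := (hZ2 b).1 hb
    let f : P →* P :=
      { toFun := fun g => ⁅b, g⁆
        map_one' := commutatorElement_one_right b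
        map_mul' := fun g h => by
          rw [commutatorElement_mul_right_eq_mul_conj, mul_assoc _ g,
            Subgroup.mem_center_iff.1 (hb' h) g, ← mul_assoc, mul_inv_cancel_right] }
    have hle : commutator P ≤ f.ker := by
      rw [commutator_def, Subgroup.commutator_le]
      intro g _ h _
      rw [MonoidHom.mem_ker, map_commutatorElement, commutatorElement_eq_one_iff_commute]
      exact Subgroup.mem_center_iff.1 (hb' h) _
    have h1 : ⁅b, x⁆ = 1 := hle hxW
    exact (commutatorElement_eq_one_iff_commute.1 h1).eq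
  refine ⟨A, hAn, hAi, hAc, fun x hx => hAZ (hiv x hx), ?_, hbig⟩
  -- self-centralizing
  haveI := hAn
  let C := Subgroup.centralizer (A : Set P)
  have hCi : ∀ k ∈ K, ∀ c ∈ C, k c ∈ C := fun k hk c hc' => Subgroup.mem_centralizer_iff.2 fun a ha => by
    obtain ⟨a, rfl⟩ := k.surjective a
    have ha' : a ∈ A := by
      have h1 := hAi k⁻¹ (inv_mem hk) _ ha
      rwa [MulAut.inv_apply_self] at h1
    rw [← map_mul, ← map_mul, Subgroup.mem_centralizer_iff.1 hc' a ha']
  intro g hg
  by_contra hgA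
  obtain ⟨x, hxC, hxA, hx2, hxg⟩ := exists_mod hP A C fun h =>
    hgA (h (Subgroup.mem_centralizer_iff.2 fun a ha => (hg a ha).symm))
  let Ω : Subgroup P := omegaMod A hAn C
  have hAΩ : A ≤ Ω := fun a ha => ⟨Subgroup.mem_centralizer_iff.2 fun b hb => hAc b hb a ha,
    mul_mem ha ha, fun g => by
      have := mul_mem ha (hAn.conj_mem _ (A.inv_mem ha) g)
      rw [commutatorElement_def]
      simpa [mul_assoc] using this⟩
  have hΩn : Ω.Normal := ⟨fun a ha g => by
    refine ⟨(inferInstance : C.Normal).conj_mem a ha.1 g, ?_, fun h => ?_⟩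
    · have := hAn.conj_mem _ ha.2.1 g
      convert this using 1
      group
    · have := hAn.conj_mem _ (ha.2.2 (g⁻¹ * h * g)) g
      convert this using 1
      rw [commutatorElement_def, commutatorElement_def]; group⟩
  have hΩi : ∀ k ∈ K, ∀ a ∈ Ω, k a ∈ Ω := fun k hk a ha => by
    refine ⟨hCi k hk a ha.1, by rw [← map_mul]; exact hAi k hk _ ha.2.1, fun h => ?_⟩
    obtain ⟨h, rfl⟩ := k.surjective h
    rw [← map_commutatorElement]
    exact hAi k hk _ (ha.2.2 h)
  by_cases hΩc : ∀ a ∈ Ω, ∀ b ∈ Ω, a * b = b * a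
  · have := hAmax.le_of_ge (y := Ω) ⟨hΩn, hΩi, hΩc, hAZ.trans hAΩ⟩ hAΩ
    exact hxA (this ⟨hxC, hx2, hxg⟩)
  · push Not at hΩc
    obtain ⟨a, ha, b, hb, hab⟩ := hΩc
    let ρ : K →* MulAut Ω :=
      { toFun := fun k =>
          { toFun := fun x => ⟨(k : MulAut P) x, hΩi k k.2 x x.2⟩
            invFun := fun x => ⟨((k⁻¹ : K) : MulAut P) x, hΩi _ (inv_mem k.2) x x.2⟩
            left_inv := fun x => Subtype.ext ((k : MulAut P).symm_apply_apply x)
            right_inv := fun x => Subtype.ext ((k : MulAut P).apply_symm_apply x)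
            map_mul' := fun x y => Subtype.ext (map_mul (k : MulAut P) (x : P) (y : P)) }
        map_one' := MulEquiv.ext fun _ => rfl
        map_mul' := fun _ _ => MulEquiv.ext fun _ => rfl }
    have hK' : IsTransSol ρ.range := by
      refine ⟨?_, fun x y hx hx2 hy hy2 => ?_⟩
      · haveI := hK.1
        exact Group.isSolvable_of_surjective ρ.rangeRestrict_surjective
      · obtain ⟨k, hk, hkx⟩ := hK.2 (x : P) y (fun h => hx (Subtype.ext h))
          (congrArg Subtype.val hx2) (fun h => hy (Subtype.ext h)) (congrArg Subtype.val hy2)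
        exact ⟨ρ ⟨k, hk⟩, ⟨_, rfl⟩, Subtype.ext hkx⟩
    have htwoΩ : TwoInvol Ω := by
      obtain ⟨e₁, e₂, he, he₁, he₁2, he₂, he₂2⟩ := htwo
      exact ⟨⟨e₁, hAΩ (hAZ (hiv e₁ he₁2))⟩, ⟨e₂, hAΩ (hAZ (hiv e₂ he₂2))⟩,
        fun h => he (congrArg Subtype.val h), fun h => he₁ (congrArg Subtype.val h),
        Subtype.ext he₁2, fun h => he₂ (congrArg Subtype.val h), Subtype.ext he₂2⟩
    obtain ⟨c, hc', hc2⟩ := hbig
    refine hc2 (congrArg Subtype.val (center_sq (Nat.card Ω) Ω le_rfl (hP.to_subgroup Ω)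
      ⟨⟨a, ha⟩, ⟨b, hb⟩, fun h => hab (congrArg Subtype.val h)⟩ ρ.range hK' htwoΩ ⟨c, hAΩ hc'⟩
      (Subgroup.mem_center_iff.2 fun y => Subtype.ext ?_)))
    exact (Subgroup.mem_centralizer_iff.1 y.2.1 c hc').symm

end Cfsg.Lib.SolvSuzuki
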