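import Mathlib.Data.Nat.ModEq
import Mathlib.Data.Fintype.Basic
import Mathlib.Algebra.BigOperators.Group.Finset.Basic
import Mathlib.Data.Finset.Card
import Mathlib.Tactic

/-!
# Congruences between sums of two powers of two

If `s ∣ n` and `s * M = 2 ^ n - 1`, a congruence modulo `M` between sums of two powers of two with
exponents below `n` is trivial, apart from a few small cases: some rotation of the exponents avoids
the top quarter of `[0, n)`.
-/

set_option autoImplicit false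

namespace Cfsg.Lib.SolvSuzuki

theorem exists_shift (n k : ℕ) (hk : 4 * k < n) (e : Fin 4 → ℕ) :
    ∃ c, c < n ∧ ∀ r, (e r + c) % n < n - k := by
  classical
  let bad : Fin 4 → Finset ℕ := fun r =>
    (Finset.range n).filter (fun c => n - k ≤ (e r + c) % n)
  have hbad : ∀ r, (bad r).card ≤ k := by
    intro r
    have h : (bad r).card ≤ (Finset.Ico (n - k) n).card := by
      refine Finset.card_le_card_of_injOn (fun c => (e r + c) % n) (fun c hc => ?_) ?_
      · simp only [bad, Finset.mem_coe, Finset.mem_filter, Finset.mem_range] at hc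
        exact Finset.mem_Ico.2 ⟨hc.2, Nat.mod_lt _ (by omega)⟩
      · intro c hc d hd h
        simp only [bad, Finset.coe_filter, Set.mem_ofPred_eq, Finset.mem_range] at hc hd
        exact (Nat.ModEq.add_left_cancel' (e r) h).eq_of_lt_of_lt hc.1 hd.1
    simp only [Nat.card_Ico] at h
    omega
  have hlt : (Finset.univ.biUnion bad).card < (Finset.range n).card := by
    refine lt_of_le_of_lt Finset.card_biUnion_le ?_
    refine lt_of_le_of_lt (Finset.sum_le_sum (fun r _ => hbad r)) ?_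
    simp only [Finset.sum_const, Finset.card_univ, Fintype.card_fin, smul_eq_mul, Finset.card_range]
    exact hk
  obtain ⟨c, hc, hcb⟩ := Finset.exists_mem_notMem_of_card_lt_card hlt
  refine ⟨c, Finset.mem_range.1 hc, fun r => ?_⟩
  by_contra h
  exact hcb (Finset.mem_biUnion.2 ⟨r, Finset.mem_univ r, Finset.mem_filter.2 ⟨hc, by omega⟩⟩)

theorem eq_of_sum_pow_eq {a b c d : ℕ} (h : 2 ^ a + 2 ^ b = 2 ^ c + 2 ^ d) :
    (a = c ∧ b = d) ∨ (a = d ∧ b = c) := by
  have key : ∀ a b c d : ℕ, 2 ^ a + 2 ^ b = 2 ^ c + 2 ^ d → a ≤ b → a < c → a < d → False := by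
    intro a b c d h hab hac had
    obtain ⟨b', rfl⟩ := Nat.exists_eq_add_of_le hab
    obtain ⟨c', rfl⟩ := Nat.exists_eq_add_of_le (show a + 1 ≤ c from hac)
    obtain ⟨d', rfl⟩ := Nat.exists_eq_add_of_le (show a + 1 ≤ d from had)
    simp only [pow_add, pow_one] at h
    have h' : 1 + 2 ^ b' = 2 * 2 ^ c' + 2 * 2 ^ d' :=
      Nat.eq_of_mul_eq_mul_left (Nat.two_pow_pos a) (by linarith)
    rcases Nat.eq_zero_or_pos b' with hb | hb
    · subst hb
      have := Nat.one_le_two_pow (n := c')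
      have := Nat.one_le_two_pow (n := d')
      omega
    · obtain ⟨b'', rfl⟩ := Nat.exists_eq_succ_of_ne_zero hb.ne'
      rw [pow_succ] at h'
      omega
  have hmin : min a b = min c d := by
    rcases lt_trichotomy (min a b) (min c d) with h1 | h1 | h1
    · exfalso
      rcases le_total a b with hab | hab
      · exact key a b c d h hab (by omega) (by omega)
      · exact key b a c d (by omega) hab (by omega) (by omega)
    · exact h1
    · exfalso
      rcases le_total c d with hcd | hcd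
      · exact key c d a b h.symm hcd (by omega) (by omega)
      · exact key d c a b (by omega) hcd (by omega) (by omega)
  have hinj := fun x y (e : 2 ^ x = 2 ^ y) => Nat.pow_right_injective (le_refl 2) e
  rcases le_total a b with hab | hab <;> rcases le_total c d with hcd | hcd
  · rw [min_eq_left hab, min_eq_left hcd] at hmin
    subst hmin
    exact Or.inl ⟨rfl, hinj _ _ (by omega)⟩
  · rw [min_eq_left hab, min_eq_right hcd] at hmin
    subst hmin
    exact Or.inr ⟨rfl, hinj _ _ (by omega)⟩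
  · rw [min_eq_right hab, min_eq_left hcd] at hmin
    subst hmin
    exact Or.inr ⟨hinj _ _ (by omega), rfl⟩
  · rw [min_eq_right hab, min_eq_right hcd] at hmin
    subst hmin
    exact Or.inl ⟨hinj _ _ (by omega), rfl⟩

theorem pow_mod_rotate {n M : ℕ} (hM : 2 ^ n ≡ 1 [MOD M]) (a : ℕ) :
    2 ^ a ≡ 2 ^ (a % n) [MOD M] := by
  conv_lhs => rw [← Nat.mod_add_div a n, pow_add, pow_mul]
  simpa using (hM.pow (a / n)).mul_left (2 ^ (a % n))

theorem modEq_one_of_mul_eq {n s M : ℕ} (hsM : s * M = 2 ^ n - 1) : 2 ^ n ≡ 1 [MOD M] :=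
  ((Nat.modEq_iff_dvd' Nat.one_le_two_pow).2 ⟨s, by rw [← hsM, mul_comm]⟩).symm

/-- Sums of two powers are congruent only trivially when `s` is small. -/
theorem quad {n s M k : ℕ} (hsM : s * M = 2 ^ n - 1) (hk : 4 * k < n) (hs : s < 2 ^ k) {a b c d : ℕ}
    (ha : a < n) (hb : b < n) (hc : c < n) (hd : d < n)
    (h : 2 ^ a + 2 ^ b ≡ 2 ^ c + 2 ^ d [MOD M]) : (a = c ∧ b = d) ∨ (a = d ∧ b = c) := by
  obtain ⟨r, -, hr⟩ := exists_shift n k hk ![a, b, c, d]
  have hM := modEq_one_of_mul_eq hsM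
  have h1 : 2 ^ ((a + r) % n) + 2 ^ ((b + r) % n) ≡
      2 ^ ((c + r) % n) + 2 ^ ((d + r) % n) [MOD M] := by
    refine ((pow_mod_rotate hM _).add (pow_mod_rotate hM _)).symm.trans ?_
    refine (?_ : _ ≡ _ [MOD M]).trans ((pow_mod_rotate hM _).add (pow_mod_rotate hM _))
    simp only [pow_add, ← add_mul]
    exact h.mul_right _
  have hb' : ∀ e, (e + r) % n < n - k → 2 * 2 ^ ((e + r) % n) ≤ 2 ^ (n - k) := fun e he => by
    rw [← pow_succ']; exact Nat.pow_le_pow_right (by norm_num) he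
  have ra := hb' a (hr 0)
  have rb := hb' b (hr 1)
  have rc := hb' c (hr 2)
  have rd := hb' d (hr 3)
  have hlt : 2 ^ (n - k) < M := by
    have e : 2 ^ k * 2 ^ (n - k) = 2 ^ n := by rw [← pow_add]; congr 1; omega
    have h2 : 2 ≤ 2 ^ (n - k) := by
      calc 2 = 2 ^ 1 := (pow_one 2).symm
        _ ≤ 2 ^ (n - k) := Nat.pow_le_pow_right (by norm_num) (by omega)
    by_contra hle
    have h3 : s * M ≤ s * 2 ^ (n - k) := Nat.mul_le_mul_left _ (by omega)
    have h4 : (s + 1) * 2 ^ (n - k) ≤ 2 ^ k * 2 ^ (n - k) := Nat.mul_le_mul_right _ hs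
    rw [add_mul, one_mul, e] at h4
    omega
  have heq := h1.eq_of_lt_of_lt (by omega) (by omega)
  have hcancel : ∀ x y, x < n → y < n → (x + r) % n = (y + r) % n → x = y := fun x y hx hy e =>
    (Nat.ModEq.add_right_cancel' r e).eq_of_lt_of_lt hx hy
  rcases eq_of_sum_pow_eq heq with ⟨e1, e2⟩ | ⟨e1, e2⟩
  · exact Or.inl ⟨hcancel a c ha hc e1, hcancel b d hb hd e2⟩
  · exact Or.inr ⟨hcancel a d ha hd e1, hcancel b c hb hc e2⟩

theorem small_or_bound {n s : ℕ} (_hn : 2 ≤ n) (hsn : s ∣ n) (hsd : s ∣ 2 ^ n - 1) :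
    n ≤ 6 ∨ ∃ k, 4 * k < n ∧ s < 2 ^ k := by
  by_cases h6 : n ≤ 6
  · exact Or.inl h6
  refine Or.inr ⟨(n - 1) / 4, by omega, ?_⟩
  have hsle : s ≤ n := Nat.le_of_dvd (by omega) hsn
  by_cases h21 : 21 ≤ n
  · have key : ∀ k, 5 ≤ k → 4 * k + 4 < 2 ^ k := by
      intro k hk
      induction k, hk using Nat.le_induction with
      | base => norm_num
      | succ k hk ih => rw [pow_succ]; omega
    have := key ((n - 1) / 4) (by omega)
    omega
  · have hs21 : s < 21 := by omega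
    have tab : ∀ n < 21, ∀ s < 21, 6 < n → s ∣ n → s ∣ 2 ^ n - 1 → s < 2 ^ ((n - 1) / 4) := by decide
    exact tab n (by omega) s hs21 (by omega) hsn hsd

/-- The separation of the weights. -/
theorem weight_congr {n s M : ℕ} (hn : 2 ≤ n) (hsn : s ∣ n) (hsM : s * M = 2 ^ n - 1) {i j t : ℕ}
    (hi : i < n) (hj : j < n) (ht : t < n)
    (h : 2 ^ ((j + t) % n) + 1 ≡ 2 ^ t + 2 ^ i [MOD M]) : i = j := by
  rcases small_or_bound hn hsn ⟨M, hsM.symm⟩ with h6 | ⟨k, hk, hs⟩
  · have tab : ∀ n : Fin 7, ∀ s : Fin 7, 2 ≤ n.val → s.val ∣ n.val → s.val ∣ 2 ^ n.val - 1 →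
        ∀ i j t : Fin 7, i.val < n.val → j.val < n.val → t.val < n.val →
        (2 ^ ((j.val + t.val) % n.val) + 1) % ((2 ^ n.val - 1) / s.val) =
          (2 ^ t.val + 2 ^ i.val) % ((2 ^ n.val - 1) / s.val) → i.val = j.val := by
      decide +kernel
    have hs0 : 0 < s := Nat.pos_of_dvd_of_pos hsn (by omega)
    have hMd : (2 ^ n - 1) / s = M := by rw [← hsM, Nat.mul_div_cancel_left _ hs0]
    have := Nat.le_of_dvd (by omega) hsn
    exact tab ⟨n, by omega⟩ ⟨s, by omega⟩ hn hsn ⟨M, hsM.symm⟩ ⟨i, by omega⟩ ⟨j, by omega⟩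
      ⟨t, by omega⟩ hi hj ht (by simp only; rw [hMd]; exact h)
  · have hm : (j + t) % n < n := Nat.mod_lt _ (by omega)
    rcases quad hsM hk hs hm (show 0 < n by omega) ht hi (by simpa using h) with ⟨e1, e2⟩ | ⟨e1, e2⟩
    · have : (j + t) % n = (0 + t) % n := by rw [e1, zero_add, Nat.mod_eq_of_lt ht]
      have hj0 : j = 0 := (Nat.ModEq.add_right_cancel' t this).eq_of_lt_of_lt hj (by omega)
      omega
    · subst e2
      rw [add_zero, Nat.mod_eq_of_lt hj] at e1
      exact e1.symm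

/-- The only sum of two powers congruent to one. -/
theorem form_congr {n s M : ℕ} (hn : 2 ≤ n) (hsn : s ∣ n) (hsM : s * M = 2 ^ n - 1) {i j : ℕ}
    (hi : i < n) (hj : j < n) (h : 2 ^ i + 2 ^ j ≡ 1 [MOD M]) : i = n - 1 ∧ j = n - 1 := by
  rcases small_or_bound hn hsn ⟨M, hsM.symm⟩ with h6 | ⟨k, hk, hs⟩
  · have tab : ∀ n : Fin 7, ∀ s : Fin 7, 2 ≤ n.val → s.val ∣ n.val → s.val ∣ 2 ^ n.val - 1 →
        ∀ i j : Fin 7, i.val < n.val → j.val < n.val →
        (2 ^ i.val + 2 ^ j.val) % ((2 ^ n.val - 1) / s.val) = 1 % ((2 ^ n.val - 1) / s.val) →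
        i.val = n.val - 1 ∧ j.val = n.val - 1 := by
      decide +kernel
    have hs0 : 0 < s := Nat.pos_of_dvd_of_pos hsn (by omega)
    have hMd : (2 ^ n - 1) / s = M := by rw [← hsM, Nat.mul_div_cancel_left _ hs0]
    have := Nat.le_of_dvd (by omega) hsn
    exact tab ⟨n, by omega⟩ ⟨s, by omega⟩ hn hsn ⟨M, hsM.symm⟩ ⟨i, by omega⟩ ⟨j, by omega⟩ hi hj
      (by simp only; rw [hMd]; exact h)
  · have e : 2 ^ (n - 1) + 2 ^ (n - 1) = 2 ^ n := by
      rw [← two_mul, ← pow_succ']; congr 1; omega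
    have h' : 2 ^ i + 2 ^ j ≡ 2 ^ (n - 1) + 2 ^ (n - 1) [MOD M] := by
      rw [e]; exact h.trans (modEq_one_of_mul_eq hsM).symm
    rcases quad hsM hk hs hi hj (show n - 1 < n by omega) (show n - 1 < n by omega) h' with
      ⟨a, b⟩ | ⟨a, b⟩ <;> exact ⟨a, b⟩

end Cfsg.Lib.SolvSuzuki
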