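import Cfsg.Agent.Lib.TwoGroup.SolvSuzuki.Semilinear

/-!
# Weights and forms for a scalar of small index

The weights of a scalar whose order has index dividing the degree still separate the monomials,
the weights of all scalars span the field, and an equivariant alternating biadditive form vanishes.
-/

set_option autoImplicit false
set_option linter.unusedSectionVars false

namespace Cfsg.Lib.SolvSuzuki

open Cfsg.Lib.Suzuki2 Polynomial

universe u

section
variable {L : Type u} [Field L] [Fintype L] [CharP L 2] {n : ℕ}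

/-- Conjugate weights have equal index. -/
theorem weight_inj' (hn : Fintype.card L = 2 ^ n) (hn2 : 2 ≤ n) {s M : ℕ} (hsn : s ∣ n)
    (hsM : s * M = 2 ^ n - 1) {l : L} (hl0 : l ≠ 0) (hl : orderOf l = M) {i j t : ℕ} (hi : i < n) (hj : j < n) (ht : t < n)
    (h : weight l i = weight l j ^ 2 ^ t) : i = j := by
  rw [weight, weight, div_pow, ← pow_mul, ← pow_add,
    div_eq_div_iff (pow_ne_zero _ hl0) (pow_ne_zero _ hl0), pow_two_pow_add hn l (j + t),
    ← pow_succ', ← pow_add] at h
  have hfin : IsOfFinOrder l := isOfFinOrder_iff_pow_eq_one.2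
    ⟨Fintype.card L - 1, by have := Fintype.one_lt_card (α := L); omega,
      FiniteField.pow_card_sub_one_eq_one l hl0⟩
  rw [hfin.pow_eq_pow_iff_modEq, hl] at h
  exact weight_congr hn2 hsn hsM hi hj ht h

/-- A set of coefficient vectors invariant under the weights is closed under projections. -/
theorem proj_mem' (hn : Fintype.card L = 2 ^ n) (hn2 : 2 ≤ n) {s M : ℕ} (hsn : s ∣ n)
    (hsM : s * M = 2 ^ n - 1) {l : L} (hl0 : l ≠ 0) (hl : orderOf l = M) (W : AddSubgroup (Fin n → L))
    (hW : ∀ a ∈ W, (fun i : Fin n => weight l i * a i) ∈ W) {a : Fin n → L} (ha : a ∈ W) (i : Fin n) :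
    Pi.single i (a i) ∈ W := by
  classical
  -- the operators preserving `W`
  let R : Subsemiring (Fin n → L) :=
    { carrier := {r | ∀ a ∈ W, r * a ∈ W}
      one_mem' := fun a ha => by rwa [one_mul]
      mul_mem' := fun {r s} hr hs a ha => by rw [mul_assoc]; exact hr _ (hs a ha)
      zero_mem' := fun a _ => by rw [zero_mul]; exact W.zero_mem
      add_mem' := fun {r s} hr hs a ha => by rw [add_mul]; exact W.add_mem (hr a ha) (hs a ha) }
  have hwR : (fun i : Fin n => weight l i) ∈ R := hW
  have hsep : ∀ j : Fin n, ∃ r ∈ R, j ≠ i → r j = 0 ∧ r i ≠ 0 := by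
    intro j
    let f : L[X] := ∏ t ∈ Finset.range n, (X - C (weight l j ^ 2 ^ t))
    have hper : weight l j ^ 2 ^ n = weight l j := by rw [← hn, FiniteField.pow_card]
    have hfix : f.map (frobenius L 2) = f := by
      simp only [f, Polynomial.map_prod, Polynomial.map_sub, map_X, map_C, frobenius_def, ← pow_mul,
        ← pow_succ]
      have h1 := Finset.prod_range_succ' (fun t => X - C (weight l j ^ 2 ^ t)) n
      rw [Finset.prod_range_succ, hper] at h1
      simp only [pow_zero, pow_one] at h1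
      exact (mul_right_cancel₀ (X_sub_C_ne_zero _) h1).symm
    have hcoef : ∀ t, f.coeff t = 0 ∨ f.coeff t = 1 := by
      intro t
      have h := congrArg (fun g => g.coeff t) hfix
      simp only [coeff_map, frobenius_def, pow_two] at h
      rcases eq_or_ne (f.coeff t) 0 with h0 | h0
      · exact Or.inl h0
      · exact Or.inr (mul_right_cancel₀ h0 (h.trans (one_mul _).symm))
    refine ⟨fun k => f.eval (weight l k), ?_, fun hji => ⟨?_, ?_⟩⟩
    · have e : (fun k : Fin n => f.eval (weight l k)) =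
          ∑ t ∈ Finset.range (f.natDegree + 1),
            if f.coeff t = 0 then 0 else (fun k : Fin n => weight l k) ^ t := by
        funext k
        rw [eval_eq_sum_range, Finset.sum_apply]
        refine Finset.sum_congr rfl fun t _ => ?_
        rcases hcoef t with h | h <;> simp [h]
      rw [e]
      exact R.sum_mem fun t _ => by
        split
        · exact R.zero_mem
        · exact pow_mem hwR t
    · show f.eval (weight l j) = 0
      rw [eval_prod]
      exact Finset.prod_eq_zero (Finset.mem_range.2 (Fin.pos i)) (by simp)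
    · show f.eval (weight l i) ≠ 0
      rw [eval_prod, Finset.prod_ne_zero_iff]
      intro t ht
      rw [eval_sub, eval_X, eval_C, sub_ne_zero]
      exact fun h => hji (Fin.ext (weight_inj' hn hn2 hsn hsM hl0 hl i.2 j.2 (Finset.mem_range.1 ht) h)).symm
  choose r hrR hr using hsep
  let e : Fin n → L := (∏ j ∈ Finset.univ.erase i, r j) ^ (Fintype.card L - 1)
  have heR : e ∈ R := pow_mem (prod_mem fun j _ => hrR j) _
  have hcpos : Fintype.card L - 1 ≠ 0 := by have := Fintype.one_lt_card (α := L); omega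
  have he : e * a = Pi.single i (a i) := by
    funext k
    simp only [e, Pi.mul_apply, Pi.pow_apply, Finset.prod_apply]
    by_cases hk : k = i
    · subst hk
      rw [Pi.single_eq_same, FiniteField.pow_card_sub_one_eq_one _
        (Finset.prod_ne_zero_iff.2 fun j hj => (hr j (Finset.ne_of_mem_erase hj)).2), one_mul]
    · rw [Pi.single_eq_of_ne hk, Finset.prod_eq_zero (f := fun c => r c k) (Finset.mem_erase.2 ⟨hk, Finset.mem_univ k⟩)
        (hr k hk).1, zero_pow hcpos, zero_mul]
  exact he ▸ heR a ha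

theorem weight_mul (a b : L) (i : ℕ) : weight (a * b) i = weight a i * weight b i := by
  rw [weight, weight, weight, mul_pow, mul_div_mul_comm]

/-- The weights of nonzero index of all scalars span the field. -/
theorem full_of_range (hn : Fintype.card L = 2 ^ n) {i : ℕ} (hi : i < n) (hi0 : i ≠ 0)
    (S : AddSubgroup L) (hS : ∀ x : L, x ≠ 0 → weight x i ∈ S) : ∀ x, x ∈ S := by
  obtain ⟨g, hg0, hg⟩ := exists_gen L
  let T : Set L := (fun x => weight x i) '' {x : L | x ≠ 0}
  have hinv : ∀ x ∈ AddSubgroup.closure T, weight g i * x ∈ AddSubgroup.closure T := by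
    intro x hx
    induction hx using AddSubgroup.closure_induction with
    | mem x hx =>
      obtain ⟨y, hy, rfl⟩ := hx
      exact AddSubgroup.subset_closure ⟨g * y, mul_ne_zero hg0 hy, weight_mul g y i⟩
    | zero => rw [mul_zero]; exact zero_mem _
    | add a b _ _ ha hb => rw [mul_add]; exact add_mem ha hb
    | neg a _ ha => rw [mul_neg]; exact neg_mem ha
  have h1 : (1 : L) ∈ AddSubgroup.closure T :=
    AddSubgroup.subset_closure ⟨1, one_ne_zero, by simp [weight]⟩
  intro x
  refine (AddSubgroup.closure_le S).2 ?_ (full_of_weight hn hg0 hg hi hi0 _ hinv h1 one_ne_zero x)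
  rintro _ ⟨y, hy, rfl⟩
  exact hS y hy

/-- An equivariant alternating biadditive map vanishes. -/
theorem form_eq_zero (hn : Fintype.card L = 2 ^ n) (hn2 : 2 ≤ n) {s M : ℕ} (hsn : s ∣ n)
    (hsM : s * M = 2 ^ n - 1) {l : L} (hl0 : l ≠ 0) (hl : orderOf l = M) (β : L → L → L)
    (hl1 : ∀ x y z, β (x + y) z = β x z + β y z) (hr1 : ∀ x y z, β x (y + z) = β x y + β x z)
    (halt : ∀ x, β x x = 0) (hequ : ∀ x y, β (l * x) (l * y) = l * β x y) (x y : L) : β x y = 0 := by
  classical
  have h1 : ∀ x, ∃ a : Fin n → L, ∀ y, β x y = ∑ j : Fin n, a j * y ^ 2 ^ (j : ℕ) :=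
    fun x => exists_coeff hn (β x) (hr1 x)
  choose a ha using h1
  have hauniq : ∀ x (d : Fin n → L), (∀ y, β x y = ∑ j : Fin n, d j * y ^ 2 ^ (j : ℕ)) → a x = d :=
    fun x d hd => sub_eq_zero.1 (coeff_unique hn (a x - d) fun y => by
      simp only [Pi.sub_apply, sub_mul, Finset.sum_sub_distrib]
      rw [← ha x y, ← hd y, sub_self])
  have haadd : ∀ x x', a (x + x') = a x + a x' := fun x x' => hauniq _ _ fun y => by
    simp only [Pi.add_apply, add_mul, Finset.sum_add_distrib]
    rw [← ha, ← ha, hl1]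
  have h2 : ∀ j, ∃ c : Fin n → L, ∀ x, a x j = ∑ i : Fin n, c i * x ^ 2 ^ (i : ℕ) :=
    fun j => exists_coeff hn (fun x => a x j) fun x x' => by rw [haadd]; rfl
  choose c hc using h2
  have hfix : ∀ (j i : Fin n), l ^ 2 ^ (i : ℕ) * l ^ 2 ^ (j : ℕ) * c j i = l * c j i := by
    intro j i
    have hstep : ∀ x, a (l * x) j * l ^ 2 ^ (j : ℕ) = l * a x j := fun x => by
      have h := coeff_unique hn (fun j => a (l * x) j * l ^ 2 ^ (j : ℕ) - l * a x j) fun y => by
        have := hequ x y
        rw [ha, ha, Finset.mul_sum] at this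
        rw [← sub_eq_zero.2 this, ← Finset.sum_sub_distrib]
        refine Finset.sum_congr rfl fun j _ => ?_
        rw [mul_pow]; ring
      exact sub_eq_zero.1 (congrFun h j)
    have h := coeff_unique hn
      (fun i => l ^ 2 ^ (i : ℕ) * l ^ 2 ^ (j : ℕ) * c j i - l * c j i) fun x => by
        have := hstep x
        rw [hc, hc, Finset.sum_mul, Finset.mul_sum] at this
        rw [← sub_eq_zero.2 this, ← Finset.sum_sub_distrib]
        refine Finset.sum_congr rfl fun i _ => ?_
        rw [mul_pow]; ring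
    exact sub_eq_zero.1 (congrFun h i)
  have hsupp : ∀ j i : Fin n, c j i ≠ 0 → (i : ℕ) = n - 1 ∧ (j : ℕ) = n - 1 := by
    intro j i hji
    have h := mul_right_cancel₀ hji (hfix j i)
    rw [← pow_add] at h
    have h' : l ^ (2 ^ (i : ℕ) + 2 ^ (j : ℕ)) = l ^ 1 := by rw [h, pow_one]
    have hM : 0 < M := by
      rcases Nat.eq_zero_or_pos M with h0 | h0
      · subst h0
        have h4 : (2 : ℕ) ^ 2 ≤ 2 ^ n := Nat.pow_le_pow_right (by norm_num) hn2
        omega
      · exact h0
    have hfin : IsOfFinOrder l := orderOf_pos_iff.1 (hl ▸ hM)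
    rw [hfin.pow_eq_pow_iff_modEq, hl] at h'
    exact form_congr hn2 hsn hsM i.2 j.2 h'
  let m : Fin n := ⟨n - 1, by omega⟩
  have hval : ∀ x y, β x y = c m m * x ^ 2 ^ (n - 1) * y ^ 2 ^ (n - 1) := by
    intro x y
    rw [ha]
    have hm : ∀ j : Fin n, j ≠ m → a x j = 0 := fun j hj => by
      rw [hc]
      refine Finset.sum_eq_zero fun i _ => ?_
      by_contra h
      exact hj (Fin.ext (hsupp j i (left_ne_zero_of_mul h)).2)
    rw [Finset.sum_eq_single m (fun j _ hj => by rw [hm j hj, zero_mul]) (by simp), hc,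
      Finset.sum_eq_single m (fun i _ hi => ?_) (by simp)]
    by_contra h
    exact hi (Fin.ext (hsupp m i (left_ne_zero_of_mul h)).1)
  have hc0 : c m m = 0 := by
    have := halt 1
    rw [hval] at this
    simpa using this
  rw [hval, hc0, zero_mul, zero_mul]

end

variable {P : Type u} [Group P] [Finite P] {Y : Subgroup (MulAut P)}

/-- A biadditive, alternating, equivariant form on the involutions vanishes. -/
theorem form_eq_one (hP : IsPGroup 2 P) (hY : IsTransSol Y) (htwo : TwoInvol P) (β : P → P → P)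
    (hval : ∀ a b, a * a = 1 → b * b = 1 → β a b * β a b = 1)
    (hadd : ∀ a b c, a * a = 1 → b * b = 1 → c * c = 1 → β a (b * c) = β a b * β a c)
    (halt : ∀ a, a * a = 1 → β a a = 1)
    (hsymm : ∀ a b, a * a = 1 → b * b = 1 → β a b = β b a)
    (hequ : ∀ k ∈ Y, ∀ a b, a * a = 1 → b * b = 1 → β (k a) (k b) = k (β a b))
    {a b : P} (ha : a * a = 1) (hb : b * b = 1) : β a b = 1 := by
  classical
  obtain ⟨L, _, _, _, ι, n, s, M, l, hinj, hιadd, hιsq, hιsur, hn, hn2, hsn, hsM, hl0, hl,
    ⟨k, hk, hkl⟩, -⟩ := exists_semilinear hP hY htwo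
  choose! ii hii using hιsur
  have hι0 : ι 0 = 1 := by
    have := hιadd 0 0
    rwa [add_zero, left_eq_mul] at this
  let γ : L → L → L := fun x y => ii (β (ι x) (ι y))
  have hγ : ∀ x y, ι (γ x y) = β (ι x) (ι y) := fun x y => hii _ (hval _ _ (hιsq x) (hιsq y))
  have h := form_eq_zero hn hn2 hsn hsM hl0 hl γ (fun x y z => hinj ?_) (fun x y z => hinj ?_)
    (fun x => hinj ?_) (fun x y => hinj ?_) (ii a) (ii b)
  · rw [← hii a ha, ← hii b hb, ← hγ, h, hι0]
  · rw [hιadd, hγ, hγ, hγ, hsymm _ _ (hιsq _) (hιsq _), hιadd, hadd _ _ _ (hιsq _) (hιsq _) (hιsq _),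
      hsymm _ _ (hιsq _) (hιsq x), hsymm _ _ (hιsq _) (hιsq y)]
  · rw [hιadd, hγ, hγ, hγ, hιadd, hadd _ _ _ (hιsq _) (hιsq _) (hιsq _)]
  · rw [hγ, hι0, halt _ (hιsq x)]
  · rw [hγ, ← hkl, ← hkl, hequ k hk _ _ (hιsq _) (hιsq _), ← hγ, hkl]

end Cfsg.Lib.SolvSuzuki
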