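import Cfsg.Agent.S1137
import Cfsg.Agent.S3360
import Cfsg.Agent.Lib.TwoGroup.Linearized
import Cfsg.Agent.Lib.TwoGroup.SuzukiBase
import Cfsg.Agent.Lib.TwoGroup.SolvSuzuki.Congr
import Mathlib.FieldTheory.Galois.Basic
import Mathlib.FieldTheory.Finite.GaloisField
import Mathlib.RingTheory.IntegralDomain

/-!
# Solvable automorphism groups transitive on the involutions

By the theorem on solvable transitive linear groups the involutions of the 2-group form a field on
which the automorphisms act semilinearly; the scalars occurring generate a subgroup of the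
multiplicative group whose index divides the degree of the field.
-/

set_option autoImplicit false
set_option linter.unusedSectionVars false

namespace Cfsg.Lib.SolvSuzuki

open Cfsg.Lib.Suzuki2

universe u

variable {P : Type u} [Group P] [Finite P] {Y : Subgroup (MulAut P)}

/-- A solvable group of automorphisms transitive on the involutions. -/
def IsTransSol (Y : Subgroup (MulAut P)) : Prop :=
  Group.IsSolvable Y ∧ ∀ x y : P, x ≠ 1 → x * x = 1 → y ≠ 1 → y * y = 1 → ∃ k ∈ Y, k x = y

theorem involution_central (hP : IsPGroup 2 P) (hY : IsTransSol Y) {x : P} (hx : x * x = 1) :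
    x ∈ Subgroup.center P := by
  by_cases h : x = 1
  · exact h ▸ one_mem _
  have : Nontrivial P := nontrivial_of_ne x 1 h
  obtain ⟨z, hz, hz1, hz2⟩ := Cfsg.Agent.S1137.exists_central_involution hP
  obtain ⟨k, -, hk⟩ := hY.2 z x hz1 hz2 h hx
  exact hk ▸ Cfsg.Agent.S1137.auto_center k hz

theorem card_ringAut {F : Type} [Field F] [Fintype F] [CharP F 2] {n : ℕ}
    (hn : Fintype.card F = 2 ^ n) : Nat.card (F ≃+* F) = n := by
  let _ : Algebra (ZMod 2) F := ZMod.algebra F 2
  have e : (F ≃+* F) ≃ (F ≃ₐ[ZMod 2] F) :=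
    { toFun := fun σ => AlgEquiv.ofRingEquiv (f := σ) (fun x => by
        have h : (σ.toRingHom).comp (algebraMap (ZMod 2) F) = algebraMap (ZMod 2) F :=
          RingHom.ext_zmod _ _
        exact congrFun (congrArg DFunLike.coe h) x)
      invFun := fun σ => σ.toRingEquiv
      left_inv := fun σ => rfl
      right_inv := fun σ => rfl }
  rw [Nat.card_congr e, IsGalois.card_aut_eq_finrank]
  have h := Module.card_eq_pow_finrank (K := ZMod 2) (V := F)
  rw [hn, ZMod.card] at h
  exact (Nat.pow_right_injective le_rfl h).symm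

/-- The involutions as a field with semilinear action. -/
theorem exists_semilinear (hP : IsPGroup 2 P) (hY : IsTransSol Y) (htwo : TwoInvol P) :
    ∃ (L : Type) (_ : Field L) (_ : Fintype L) (_ : CharP L 2) (ι : L → P) (n s M : ℕ) (l : L),
      Function.Injective ι ∧ (∀ x y, ι (x + y) = ι x * ι y) ∧ (∀ x, ι x * ι x = 1) ∧
      (∀ z : P, z * z = 1 → ∃ x, ι x = z) ∧
      Fintype.card L = 2 ^ n ∧ 2 ≤ n ∧ s ∣ n ∧ s * M = 2 ^ n - 1 ∧ l ≠ 0 ∧ orderOf l = M ∧
      (∃ k ∈ Y, ∀ x, k (ι x) = ι (l * x)) ∧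
      (∀ k ∈ Y, ∃ χ : L, ∃ σ : L ≃+* L, χ ≠ 0 ∧ ∀ x, k (ι x) = ι (χ * σ x)) := by
  classical
  have hiv : ∀ z : P, z * z = 1 → z ∈ Subgroup.center P := fun z hz => involution_central hP hY hz
  let E := Cfsg.Agent.S1137.invSubgroup hiv
  let _ : CommGroup E := { (inferInstance : Group E) with
    mul_comm := fun a b => Subtype.ext (Subgroup.mem_center_iff.1 (hiv b.1 b.2) a.1) }
  let V := Additive E
  let _ : Module (ZMod 2) V := AddCommGroup.zmodModule fun v => by
    show (2 : ℕ) • v = 0
    rw [two_nsmul]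
    exact Additive.toMul.injective (Subtype.ext v.toMul.2)
  have : Finite (MulAut P) := Finite.of_injective (fun a : MulAut P => (a : P → P))
    DFunLike.coe_injective
  have : Nontrivial V := by
    obtain ⟨x, y, hxy, -, hx, -, hy⟩ := htwo
    exact ⟨Additive.ofMul ⟨x, hx⟩, Additive.ofMul ⟨y, hy⟩, fun h => hxy
      (congrArg (fun v : V => (v.toMul : P)) h)⟩
  have hmem : ∀ (k : MulAut P) {x : P}, x ∈ E → k x ∈ E := fun k x hx => by
    show k x * k x = 1
    rw [← map_mul, (hx : x * x = 1), map_one]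
  let ρ₀ : Y →* (V ≃ₗ[ZMod 2] V) :=
    { toFun := fun k =>
        { toFun := fun v => Additive.ofMul ⟨(k : MulAut P) v.toMul.1, hmem _ v.toMul.2⟩
          map_add' := fun v w => congrArg Additive.ofMul (Subtype.ext (map_mul (k : MulAut P) _ _))
          map_smul' := fun c v => by
            have h : c = 0 ∨ c = 1 := by revert c; decide
            rcases h with rfl | rfl
            · simp only [zero_smul, RingHom.id_apply]
              exact congrArg Additive.ofMul (Subtype.ext (map_one (k : MulAut P)))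
            · simp only [one_smul, RingHom.id_apply]
          invFun := fun v => Additive.ofMul ⟨((k⁻¹ : Y) : MulAut P) v.toMul.1, hmem _ v.toMul.2⟩
          left_inv := fun v => congrArg Additive.ofMul (Subtype.ext
            ((k : MulAut P).symm_apply_apply v.toMul.1))
          right_inv := fun v => congrArg Additive.ofMul (Subtype.ext
            ((k : MulAut P).apply_symm_apply v.toMul.1)) }
      map_one' := LinearEquiv.ext fun v => rfl
      map_mul' := fun a b => LinearEquiv.ext fun v => rfl }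
  have : Finite (V ≃ₗ[ZMod 2] V) := Finite.of_injective (fun a : V ≃ₗ[ZMod 2] V => (a : V → V))
    DFunLike.coe_injective
  let G := ρ₀.range
  have : Finite G := inferInstance
  have hGsol : Group.IsSolvable G :=
    haveI := hY.1
    Group.isSolvable_of_surjective (f := ρ₀.rangeRestrict) ρ₀.rangeRestrict_surjective
  have htrans : ∀ v w : V, v ≠ 0 → w ≠ 0 → ∃ g : G, G.subtype g v = w := by
    intro v w hv hw
    obtain ⟨k, hk, hkv⟩ := hY.2 v.toMul.1 w.toMul.1
      (fun h => hv (Additive.toMul.injective (Subtype.ext h))) v.toMul.2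
      (fun h => hw (Additive.toMul.injective (Subtype.ext h))) w.toMul.2
    exact ⟨⟨ρ₀ ⟨k, hk⟩, ⟨k, hk⟩, rfl⟩, congrArg Additive.ofMul (Subtype.ext hkv)⟩
  rcases Cfsg.Agent.S3360.result 2 hGsol G.subtype G.subtype_injective htrans with
    ⟨F, iF, iFF, e, he⟩ | hbad
  swap
  · exfalso
    obtain ⟨m, hm⟩ := IsPGroup.iff_card.1 (hP.to_subgroup E)
    have hc : Nat.card V = 2 ^ m := hm
    have hm0 : m ≠ 0 := fun h => by
      have := Finite.one_lt_card (α := V)
      rw [hc, h] at this; simp at this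
    obtain ⟨m', rfl⟩ := Nat.exists_eq_succ_of_ne_zero hm0
    rw [hc, pow_succ] at hbad
    simp only [Set.mem_insert_iff, Set.mem_singleton_iff] at hbad
    omega
  have hchar : CharP F 2 := by
    refine CharTwo.of_one_ne_zero_of_two_eq_zero one_ne_zero ?_
    have h : e.symm (1 : F) + e.symm (1 : F) = 0 :=
      Additive.toMul.injective (Subtype.ext (e.symm (1 : F)).toMul.2)
    have h' := congrArg e h
    rwa [map_add, AddEquiv.apply_symm_apply, map_zero, one_add_one_eq_two] at h'
  let ι : F → P := fun x => ((e.symm x).toMul : E).1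
  have hιe : ∀ v : V, ι (e v) = v.toMul.1 := fun v => by simp [ι]
  have hinj : Function.Injective ι := fun x y h =>
    e.symm.injective (Additive.toMul.injective (Subtype.ext h))
  obtain ⟨n, -, hn⟩ := FiniteField.card F 2
  have hn2 : 2 ≤ (n : ℕ) := by
    by_contra h
    have hcF : Fintype.card F = 2 := by rw [hn, show (n : ℕ) = 1 by have := n.pos; omega, pow_one]
    obtain ⟨x, y, hxy, hx1, hx, hy1, hy⟩ := htwo
    have h3 : ∀ a b : F, a ≠ 0 → b ≠ 0 → a = b := fun a b ha hb => by
      by_contra hab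
      have h3 : ({0, a, b} : Finset F).card = 3 := by
        rw [Finset.card_insert_of_notMem (by simp [ha.symm, hb.symm]), Finset.card_pair hab]
      have := Finset.card_le_univ ({0, a, b} : Finset F)
      omega
    refine hxy ?_
    have := h3 (e (Additive.ofMul ⟨x, hx⟩)) (e (Additive.ofMul ⟨y, hy⟩))
      (fun h => hx1 (congrArg (fun v : V => (v.toMul : P))
        (e.injective (h.trans (map_zero e).symm))))
      (fun h => hy1 (congrArg (fun v : V => (v.toMul : P))
        (e.injective (h.trans (map_zero e).symm))))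
    exact congrArg (fun v : V => (v.toMul : P)) (e.injective this)
  -- semilinear data of an element of `G`
  choose a σ hg using he
  have ha0 : ∀ g, a g ≠ 0 := fun g h => by
    have h1 := hg g (e.symm 1)
    rw [h, zero_mul, ← map_zero e] at h1
    have h2 := (G.subtype g).injective ((e.injective h1).trans (map_zero _).symm)
    exact one_ne_zero (α := F) (by simpa using congrArg e h2)
  have huniq : ∀ g b (τ : F ≃+* F), (∀ v, e (G.subtype g v) = b * τ (e v)) → b = a g ∧ τ = σ g := by
    intro g b τ h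
    have h1 : b = a g := by
      have := (h (e.symm 1)).symm.trans (hg g (e.symm 1))
      simpa using this
    refine ⟨h1, RingEquiv.ext fun x => ?_⟩
    have := (h (e.symm x)).symm.trans (hg g (e.symm x))
    rw [h1, AddEquiv.apply_symm_apply] at this
    exact mul_left_cancel₀ (ha0 g) this
  have hmul : ∀ g g', a (g * g') = a g * σ g (a g') ∧ σ (g * g') = (σ g').trans (σ g) := by
    intro g g'
    obtain ⟨h1, h2⟩ := huniq (g * g') (a g * σ g (a g')) ((σ g').trans (σ g)) fun v => by
      rw [map_mul, show (G.subtype g * G.subtype g') v = G.subtype g (G.subtype g' v) from rfl, hg,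
        hg, map_mul, RingEquiv.trans_apply, mul_assoc]
    exact ⟨h1.symm, h2.symm⟩
  let A : Subgroup Fˣ :=
    { carrier := {b | ∃ k ∈ Y, ∀ x, k (ι x) = ι ((b : F) * x)}
      one_mem' := ⟨1, one_mem _, fun x => by simp⟩
      mul_mem' := by
        rintro b b' ⟨k, hk, h⟩ ⟨k', hk', h'⟩
        exact ⟨k * k', mul_mem hk hk', fun x => by
          rw [MulAut.mul_apply, h', h, Units.val_mul, mul_assoc]⟩
      inv_mem' := by
        rintro b ⟨k, hk, h⟩
        refine ⟨k⁻¹, inv_mem hk, fun x => ?_⟩
        apply k.injective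
        rw [MulAut.apply_inv_self, h, Units.mul_inv_cancel_left] }
  let τ : G →* (F ≃+* F) :=
    { toFun := σ
      map_one' := ((huniq 1 1 (RingEquiv.refl F) fun v => by simp).2).symm
      map_mul' := fun g g' => (hmul g g').2 }
  have hker : ∀ g : τ.ker, σ g.1 = RingEquiv.refl F := fun g => g.2
  have hA : ∀ g : τ.ker, Units.mk0 (a g.1) (ha0 g.1) ∈ A := by
    rintro ⟨⟨_, k, rfl⟩, hgk⟩
    refine ⟨k, k.2, fun x => ?_⟩
    have h1 := hg ⟨ρ₀ k, k, rfl⟩ (e.symm x)
    rw [show σ ⟨ρ₀ k, k, rfl⟩ = RingEquiv.refl F from hgk, AddEquiv.apply_symm_apply] at h1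
    have h2 := congrArg ι h1
    rw [hιe] at h2
    exact h2
  let ψ : τ.ker →* A := MonoidHom.mk' (fun g => ⟨_, hA g⟩) fun g g' => Subtype.ext (Units.ext (by
    show a (g.1 * g'.1) = a g.1 * a g'.1
    rw [(hmul g.1 g'.1).1, hker g]; rfl))
  have hψ : Function.Injective ψ := by
    intro g g' h
    have h' : a g.1 = a g'.1 := congrArg (fun b : A => ((b : Fˣ) : F)) h
    refine Subtype.ext (Subtype.ext (LinearEquiv.ext fun v => e.injective ?_))
    rw [← Subgroup.coe_subtype, hg, hg, hker g, hker g', h']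
  have hN : 2 ^ (n : ℕ) - 1 ∣ Nat.card G := by
    obtain ⟨v₀, hv₀⟩ := exists_ne (0 : V)
    let _ : MulAction G V := MulAction.compHom V G.subtype
    have horb : MulAction.orbit G v₀ = {w : V | w ≠ 0} := by
      ext w
      refine ⟨?_, fun hw => htrans v₀ w hv₀ hw⟩
      rintro ⟨g, rfl⟩ h
      exact hv₀ ((G.subtype g).injective (h.trans (map_zero _).symm))
    have hcard : (MulAction.orbit G v₀).ncard = 2 ^ (n : ℕ) - 1 := by
      rw [horb, show {w : V | w ≠ 0} = (Set.univ : Set V) \ {0} by ext; simp,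
        Set.ncard_sdiff_singleton_of_mem (Set.mem_univ _), Set.ncard_univ, Nat.card_congr e.toEquiv,
        Nat.card_eq_fintype_card, hn]
    rw [← hcard]
    exact (MulAction.index_stabilizer G v₀) ▸ Subgroup.index_dvd_card _
  have hGdvd : Nat.card G ∣ Nat.card A * n := by
    rw [Subgroup.card_eq_card_quotient_mul_card_subgroup τ.ker, mul_comm]
    refine mul_dvd_mul (Subgroup.card_dvd_of_injective ψ hψ) ?_
    rw [Nat.card_congr (QuotientGroup.quotientKerEquivRange τ).toEquiv, ← card_ringAut hn]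
    exact Subgroup.card_subgroup_dvd_card _
  have hAdvd : Nat.card A ∣ 2 ^ (n : ℕ) - 1 := by
    have := Subgroup.card_subgroup_dvd_card A
    rwa [Nat.card_units, Nat.card_eq_fintype_card (α := F), hn] at this
  obtain ⟨s, hs⟩ := hAdvd
  have hsn : s ∣ (n : ℕ) := by
    have h := hN.trans hGdvd
    rw [hs] at h
    exact (Nat.mul_dvd_mul_iff_left Nat.card_pos).1 h
  obtain ⟨l, hlA⟩ := IsCyclic.exists_ofOrder_eq_natCard (α := A)
  obtain ⟨k, hk, hkl⟩ := l.2
  refine ⟨F, iF, iFF, hchar, ι, n, s, Nat.card A, ((l : Fˣ) : F), hinj, fun x y => ?_,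
    fun x => (e.symm x).toMul.2, fun z hz => ⟨e (Additive.ofMul ⟨z, hz⟩), hιe _⟩, hn, hn2, hsn,
    by rw [hs, mul_comm], Units.ne_zero _, ?_, ⟨k, hk, hkl⟩, fun k hk => ?_⟩
  · simp only [ι, map_add]; rfl
  · rw [orderOf_units, Subgroup.orderOf_coe, hlA]
  · refine ⟨a ⟨ρ₀ ⟨k, hk⟩, ⟨k, hk⟩, rfl⟩, σ ⟨ρ₀ ⟨k, hk⟩, ⟨k, hk⟩, rfl⟩, ha0 _, fun x => ?_⟩
    have h2 := congrArg ι (hg ⟨ρ₀ ⟨k, hk⟩, ⟨k, hk⟩, rfl⟩ (e.symm x))
    rw [hιe, AddEquiv.apply_symm_apply] at h2
    exact h2

end Cfsg.Lib.SolvSuzuki
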